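import Groth.Agent.L24.Fitt.Generic
import Groth.Agent.L24.Quot.Restrict
import Groth.Agent.L02.Grpd.GenericInvariant
import Groth.Agent.L23.SchemeGen

/-!
Invariant affine thickenings around finitely many generic orbits.
-/

set_option autoImplicit false
set_option linter.style.haveILetI false
set_option backward.isDefEq.respectTransparency.types false
set_option backward.isDefEq.respectTransparency false

universe u

open CategoryTheory CategoryTheory.Limits AlgebraicGeometry TopologicalSpace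
open Groth.L19.Approx

noncomputable section

namespace Groth.L24.Fitt

variable {S : Scheme.{u}} (G : Grpd.GroupoidScheme S)

/-- An invariant affine open around finitely many generic orbits, inside an open containing them. -/
theorem exists_invariant_affine_generic [IsFinite G.s] [LocallyOfFinitePresentation G.s] [IsFinite G.t]
    [QuasiSeparatedSpace G.U] {m : ℕ} (u : Fin m → G.U)
    (hu : ∀ i (r : G.R), G.s r = u i → ∀ x : G.U, x ⤳ G.t r → x = G.t r)
    (O : G.U.Opens) (hO : ∀ i (r : G.R), G.s r = u i → G.t r ∈ O) :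
    ∃ V : G.U.Opens, IsAffineOpen V ∧ V ≤ O ∧ (∀ i, u i ∈ V) ∧ G.s ⁻¹ᵁ V = G.t ⁻¹ᵁ V := by
  let T : Set G.U := ⋃ i, {y | Groth.Agent.L24.Quot.Rel G (u i) y}
  have hT : T.Finite := Set.finite_iUnion fun i => Groth.Agent.L24.Quot.finite_rel G (u i)
  have hTmax : ∀ y ∈ T, ∀ x : G.U, x ⤳ y → x = y := by
    intro y hy
    obtain ⟨i, r, hr, rfl⟩ := Set.mem_iUnion.1 hy
    exact hu i r hr
  obtain ⟨V₀, hV₀, hTV, hV₀O⟩ := Groth.L23.Gen.exists_affine_of_finite hT hTmax O fun y hy => by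
    obtain ⟨i, r, hr, rfl⟩ := Set.mem_iUnion.1 hy
    exact hO i r hr
  let U₁ : G.U.Opens := core G V₀
  have hU₁ : G.s ⁻¹ᵁ U₁ = G.t ⁻¹ᵁ U₁ := core_invariant G V₀
  have hmem : ∀ i, u i ∈ U₁ := fun i => (mem_core G).2 fun r hr =>
    hTV (Set.mem_iUnion.2 ⟨i, Groth.Agent.L24.Quot.rel_symm G ⟨r, rfl, hr⟩⟩)
  let H := Groth.Agent.L24.Quot.restrict G U₁ hU₁
  haveI : IsFinite H.s := IsZariskiLocalAtTarget.restrict (P := @IsFinite) ‹IsFinite G.s› U₁
  haveI : LocallyOfFinitePresentation H.s :=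
    IsZariskiLocalAtTarget.restrict (P := @LocallyOfFinitePresentation) ‹LocallyOfFinitePresentation G.s› U₁
  haveI : IsFinite H.t := MorphismProperty.of_isPullback
    (isPullback_resLE_ι G.t U₁ (G.s ⁻¹ᵁ U₁) hU₁) ‹IsFinite G.t›
  let j : H.U ⟶ Spec (CommRingCat.of Γ(G.U, V₀)) := G.U.homOfLE (core_le G V₀) ≫ hV₀.isoSpec.hom
  haveI : IsOpenImmersion j := inferInstanceAs (IsOpenImmersion (G.U.homOfLE (core_le G V₀) ≫ hV₀.isoSpec.hom))
  let Zc : Set (PrimeSpectrum Γ(G.U, V₀)) := (Set.range j)ᶜ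
  have hZc : IsClosed Zc := j.isOpenEmbedding.isOpen_range.isClosed_compl
  obtain ⟨I, hI⟩ := (PrimeSpectrum.isClosed_iff_zeroLocus_ideal Zc).1 hZc
  obtain ⟨h, -, haff, hmem', hinv⟩ := L02.Grpd.GenericInvariant.main H m (fun i => (⟨u i, hmem i⟩ : U₁)) (by
      intro i r hr x hx
      apply U₁.ι.isOpenEmbedding.injective
      have h1 : G.t ((G.s ⁻¹ᵁ U₁).ι r) = U₁.ι (H.t r) :=
        congrArg (fun f : (G.s ⁻¹ᵁ U₁).toScheme ⟶ G.U => f r) (Groth.Agent.L24.Quot.tW_ι G U₁ hU₁).symm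
      have h2 : G.s ((G.s ⁻¹ᵁ U₁).ι r) = u i :=
        (congrArg (fun f : (G.s ⁻¹ᵁ U₁).toScheme ⟶ G.U => f r) (Groth.Agent.L24.Quot.sW_ι G U₁).symm).trans
          (congrArg (fun z => U₁.ι z) hr)
      have h3 := hu i _ h2 (U₁.ι x)
      rw [h1] at h3
      exact h3 (hx.map U₁.ι.continuous))
    Γ(G.U, V₀) j I (fun x hx => (hI.symm ▸ hx : j x ∈ Zc) ⟨x, rfl⟩)
    (by rw [← hI, Set.compl_union_self]; exact isClosed_univ)
  refine ⟨U₁.ι ''ᵁ (j ⁻¹ᵁ PrimeSpectrum.basicOpen h), haff.image_of_isOpenImmersion U₁.ι, ?_,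
    fun i => ⟨⟨u i, hmem i⟩, hmem' i, rfl⟩, ?_⟩
  · rintro _ ⟨x, -, rfl⟩
    exact hV₀O (core_le G V₀ x.2)
  · ext r
    constructor
    · rintro ⟨x, hx, hxr⟩
      have hr : G.s r ∈ U₁ := hxr ▸ x.2
      let r' : (G.s ⁻¹ᵁ U₁).toScheme := ⟨r, hr⟩
      have hs : H.s r' = x := by
        apply U₁.ι.isOpenEmbedding.injective
        show (Groth.Agent.L24.Quot.sW G U₁ ≫ U₁.ι) r' = U₁.ι x
        rw [Groth.Agent.L24.Quot.sW_ι]
        exact hxr.symm
      refine ⟨H.t r', (SetLike.ext_iff.1 hinv r').1 (show H.s r' ∈ j ⁻¹ᵁ PrimeSpectrum.basicOpen h from hs.symm ▸ hx), ?_⟩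
      show (Groth.Agent.L24.Quot.tW G U₁ hU₁ ≫ U₁.ι) r' = G.t r
      rw [Groth.Agent.L24.Quot.tW_ι]
      rfl
    · rintro ⟨x, hx, hxr⟩
      have hr : G.s r ∈ U₁ := (SetLike.ext_iff.1 hU₁ r).2 (show G.t r ∈ U₁ from hxr ▸ x.2)
      let r' : (G.s ⁻¹ᵁ U₁).toScheme := ⟨r, hr⟩
      have ht : H.t r' = x := by
        apply U₁.ι.isOpenEmbedding.injective
        show (Groth.Agent.L24.Quot.tW G U₁ hU₁ ≫ U₁.ι) r' = U₁.ι x
        rw [Groth.Agent.L24.Quot.tW_ι]
        exact hxr.symm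
      refine ⟨H.s r', (SetLike.ext_iff.1 hinv r').2 (show H.t r' ∈ j ⁻¹ᵁ PrimeSpectrum.basicOpen h from ht.symm ▸ hx), ?_⟩
      show (Groth.Agent.L24.Quot.sW G U₁ ≫ U₁.ι) r' = G.s r
      rw [Groth.Agent.L24.Quot.sW_ι]
      rfl

/-- Restriction of the thickening to an invariant open inside `W`. -/
theorem exists_thickening [IsFinite G.s] [LocallyOfFinitePresentation G.s] [IsFinite G.t] (V : G.U.Opens)
    (hV : V ≤ W G) (hinv : G.s ⁻¹ᵁ V = G.t ⁻¹ᵁ V) :
    ∃ V' : V.toScheme.IdealSheafData, V'.support = ⊤ ∧ LocallyOfFinitePresentation V'.subschemeι ∧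
      (∃ φ : pullback G.s (V'.subschemeι ≫ V.ι) ≅ pullback G.t (V'.subschemeι ≫ V.ι),
        φ.hom ≫ pullback.fst G.t (V'.subschemeι ≫ V.ι) = pullback.fst G.s (V'.subschemeι ≫ V.ι)) ∧
      Mor2.IsFinLocFree (pullback.snd G.s (V'.subschemeι ≫ V.ι)) ∧
      Mor2.IsFinLocFree (pullback.snd G.t (V'.subschemeι ≫ V.ι)) := by
  let k := G.U.homOfLE hV
  let V' := (W' G).comap k
  have hk : k ≫ (W G).ι = V.ι := G.U.homOfLE_ι hV
  obtain ⟨φ₀, hφ₀⟩ := exists_W'_iso G
  let p : V'.subscheme ⟶ (W' G).subscheme := Scheme.IdealSheafData.subschemeMap V' (W' G) k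
    ((W' G).le_map_comap k)
  have hp : p ≫ (W' G).subschemeι ≫ (W G).ι = V'.subschemeι ≫ V.ι := by
    rw [Scheme.IdealSheafData.subschemeMap_subschemeι_assoc, hk]
  have hs : IsPullback (pullback.lift (pullback.fst G.s (V'.subschemeι ≫ V.ι)) (pullback.snd G.s (V'.subschemeι ≫ V.ι) ≫ p)
      (by rw [Category.assoc, hp, pullback.condition])) (pullback.snd G.s (V'.subschemeι ≫ V.ι))
      (pullback.snd G.s ((W' G).subschemeι ≫ (W G).ι)) p :=
    IsPullback.of_right (by simpa [hp] using IsPullback.of_hasPullback G.s (V'.subschemeι ≫ V.ι))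
      (pullback.lift_snd _ _ _) (IsPullback.of_hasPullback _ _)
  have hfs : Mor2.IsFinLocFree (pullback.snd G.s (V'.subschemeι ≫ V.ι)) :=
    ⟨MorphismProperty.of_isPullback hs (finLocFree_s G).1, MorphismProperty.of_isPullback hs (finLocFree_s G).2.1,
      MorphismProperty.of_isPullback hs (finLocFree_s G).2.2⟩
  refine ⟨V', ?_, ?_, ?_, hfs, finLocFree_t_of_s G _ hfs⟩
  · rw [Scheme.IdealSheafData.support_comap, W'_support]
    rfl
  · exact lfp_subschemeι (fgOn_comap' k ((fgOn_iff_lfp _).2 (lfp_W' G)))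
  · let Q := G.s ⁻¹ᵁ V
    let QW := G.s ⁻¹ᵁ W G
    let l := G.R.homOfLE (show Q ≤ QW from G.s.preimage_mono hV)
    let a : Q.toScheme ⟶ V.toScheme := G.s.resLE V Q le_rfl
    let b : Q.toScheme ⟶ V.toScheme := G.t.resLE V Q hinv.le
    let a₀ : QW.toScheme ⟶ (W G).toScheme := G.s.resLE (W G) QW le_rfl
    let b₀ : QW.toScheme ⟶ (W G).toScheme := G.t.resLE (W G) QW (W_invariant G).le
    have ha : a ≫ k = l ≫ a₀ := by
      rw [← cancel_mono (W G).ι, Category.assoc, Category.assoc, hk, Scheme.Hom.resLE_comp_ι,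
        Scheme.Hom.resLE_comp_ι, ← Category.assoc, G.R.homOfLE_ι]
    have hb : b ≫ k = l ≫ b₀ := by
      rw [← cancel_mono (W G).ι, Category.assoc, Category.assoc, hk, Scheme.Hom.resLE_comp_ι,
        Scheme.Hom.resLE_comp_ι, ← Category.assoc, G.R.homOfLE_ι]
    have h0 : (W' G).comap a₀ = (W' G).comap b₀ := W'_comap_eq G
    have hI : V'.comap a = V'.comap b := by
      rw [← Scheme.IdealSheafData.comap_comp, ← Scheme.IdealSheafData.comap_comp, ha, hb,
        Scheme.IdealSheafData.comap_comp, Scheme.IdealSheafData.comap_comp, h0]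
    exact exists_pullback_iso_of_open G.s G.t V Q rfl hinv V' hI

end Groth.L24.Fitt
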