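import Groth.Agent.L24.Fitt.FiniteFitting
import Mathlib.RingTheory.Finiteness.ModuleFinitePresentation
import Mathlib.AlgebraicGeometry.Morphisms.FinitePresentation

/-!
Finite morphisms whose Fitting ideal sheaves jump at one index are finite locally free.
-/

set_option autoImplicit false
set_option linter.style.haveILetI false
set_option backward.isDefEq.respectTransparency.types false
set_option backward.isDefEq.respectTransparency false

universe u

open CategoryTheory CategoryTheory.Limits AlgebraicGeometry TopologicalSpace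

noncomputable section

namespace Groth.L24.Fitt

theorem module_of_jump {A M : Type u} [CommRing A] [AddCommGroup M] [Module A M] [Module.Finite A M] (d : ℕ)
    (h0 : ∀ k, k < d → Fitt.ideal A M k = ⊥) (h1 : Fitt.ideal A M d = ⊤) :
    Module.FinitePresentation A M ∧ Module.Projective A M ∧
      ∀ p : PrimeSpectrum A, Module.rankAtStalk M p = d := by
  have hloc := (Groth.L13.Fitting.locallyFree_iff (R := A) (M := M) d).2
    ⟨h0, fun k hk => top_unique (h1.ge.trans (Groth.L13.Fitting.ideal_mono hk))⟩
  let s : Set A := {f | Module.Free (Localization.Away f) (LocalizedModule (Submonoid.powers f) M)}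
  have hs : Ideal.span s = ⊤ := by
    by_contra hne
    obtain ⟨m, hm, hle⟩ := Ideal.exists_le_maximal _ hne
    haveI := hm.isPrime
    obtain ⟨f, hf, hfree, -⟩ := hloc m
    exact hf (hle (Ideal.subset_span hfree))
  haveI : Module.FinitePresentation A M := by
    refine Module.FinitePresentation.of_localizationSpan s hs fun g => ?_
    haveI : Module.Free (Localization.Away g.1) (LocalizedModule (Submonoid.powers g.1) M) := g.2
    haveI : Module.Finite (Localization.Away g.1) (LocalizedModule (Submonoid.powers g.1) M) :=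
      Module.Finite.of_isLocalizedModule (Submonoid.powers g.1)
        (LocalizedModule.mkLinearMap (Submonoid.powers g.1) M)
    exact Module.finitePresentation_of_projective _ _
  exact ⟨inferInstance, (Groth.L13.Fitting.projective_rank_iff d).2 ⟨h0, h1⟩⟩

variable {X T : Scheme.{u}}

/-- The Fitting ideal sheaves jump from `⊥` to `⊤` at `d`. -/
structure Jump (f : X ⟶ T) [IsFinite f] (d : ℕ) : Prop where
  bot : ∀ k, k < d → fitSheaf f k = ⊥
  top : fitSheaf f d = ⊤

theorem Jump.of_isPullback {f : X ⟶ T} [IsFinite f] {d : ℕ} (hj : Jump f d) {X' T' : Scheme.{u}} {g' : X' ⟶ X}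
    {f' : X' ⟶ T'} {g : T' ⟶ T} [IsFinite f'] (h : IsPullback g' f' f g) : Jump f' d where
  bot k hk := by rw [← comap_fitSheaf f h, hj.bot k hk, Scheme.IdealSheafData.comap_bot]
  top := by
    rw [← comap_fitSheaf f h, hj.top]
    exact (Scheme.IdealSheafData.support_eq_bot_iff _).1 (by
      rw [Scheme.IdealSheafData.support_comap, Scheme.IdealSheafData.support_top]; rfl)

theorem Jump.affine {f : X ⟶ T} [IsFinite f] {d : ℕ} (hj : Jump f d) [IsAffine T] :
    Flat f ∧ LocallyOfFinitePresentation f ∧ ∀ y, f.finrank y = d := by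
  haveI : IsAffine X := isAffine_of_isAffineHom f
  letI : Algebra Γ(T, ⊤) Γ(X, ⊤) := f.appTop.hom.toAlgebra
  haveI : Module.Finite Γ(T, ⊤) Γ(X, ⊤) := finite_sections f (isAffineOpen_top T)
  obtain ⟨hfp, hproj, hrk⟩ := module_of_jump (A := Γ(T, ⊤)) (M := Γ(X, ⊤)) d
    (fun k hk => congrArg (fun I : T.IdealSheafData => I.ideal ⟨⊤, isAffineOpen_top T⟩) (hj.bot k hk))
    (congrArg (fun I : T.IdealSheafData => I.ideal ⟨⊤, isAffineOpen_top T⟩) hj.top)
  haveI := hfp
  haveI := hproj
  haveI hflat : Flat f := by
    rw [HasRingHomProperty.iff_of_isAffine (P := @Flat)]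
    exact RingHom.flat_algebraMap_iff.2 (inferInstance : Module.Flat Γ(T, ⊤) Γ(X, ⊤))
  refine ⟨hflat, ?_, fun y => ?_⟩
  · rw [HasRingHomProperty.iff_of_isAffine (P := @LocallyOfFinitePresentation)]
    exact (RingHom.finitePresentation_algebraMap).2
      (inferInstance : Algebra.FinitePresentation Γ(T, ⊤) Γ(X, ⊤))
  · have h : IsPullback X.isoSpec.hom f (Spec.map f.appTop) T.isoSpec.hom :=
      IsPullback.of_horiz_isIso ⟨Scheme.isoSpec_hom_naturality f⟩
    haveI : Flat (Spec.map f.appTop) := Flat.SpecMap_iff.2 f.flat_appTop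
    haveI : IsFinite (Spec.map f.appTop) := (IsFinite.SpecMap_iff _).2 f.finite_appTop
    rw [Scheme.Hom.finrank_of_isPullback _ _ _ _ h]
    exact (Scheme.Hom.finrank_SpecMap_algebraMap Γ(T, ⊤) Γ(X, ⊤) _).trans (hrk _)

theorem Jump.isFinLocFreeOfDeg {f : X ⟶ T} [IsFinite f] {d : ℕ} (hj : Jump f d) :
    Mor2.IsFinLocFreeOfDeg d f := by
  have key : ∀ i, Flat (pullback.snd f (T.affineCover.f i)) ∧
      LocallyOfFinitePresentation (pullback.snd f (T.affineCover.f i)) ∧
      ∀ y, (pullback.snd f (T.affineCover.f i)).finrank y = d := fun i =>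
    (hj.of_isPullback (IsPullback.of_hasPullback f (T.affineCover.f i))).affine
  haveI hflat : Flat f := (IsZariskiLocalAtTarget.iff_of_openCover (P := @Flat) T.affineCover).2 fun i => (key i).1
  haveI hlfp : LocallyOfFinitePresentation f :=
    (IsZariskiLocalAtTarget.iff_of_openCover (P := @LocallyOfFinitePresentation) T.affineCover).2 fun i => (key i).2.1
  refine ⟨⟨inferInstance, hflat, hlfp⟩, fun y => ?_⟩
  obtain ⟨z, hz⟩ := T.affineCover.covers y
  rw [← hz, ← Scheme.Hom.finrank_pullback_snd]
  exact (key _).2.2 z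

end Groth.L24.Fitt
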