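import Groth.Agent.L13.Fitting.LocFree
import Groth.Agent.L22.Ideal
import Groth.Prelude.Def_Fitting
import Groth.Prelude.Def_Mor2
import Mathlib.AlgebraicGeometry.Morphisms.Finite
import Mathlib.AlgebraicGeometry.IdealSheaf.Functorial
import Mathlib.AlgebraicGeometry.Morphisms.FlatRank
import Mathlib.RingTheory.LocalProperties.FinitePresentation
import Mathlib.RingTheory.IsTensorProduct

/-!
Fitting ideal sheaves of a finite morphism.
-/

set_option autoImplicit false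
set_option linter.style.haveILetI false
set_option backward.isDefEq.respectTransparency.types false
set_option backward.isDefEq.respectTransparency false

universe u

open CategoryTheory CategoryTheory.Limits AlgebraicGeometry TopologicalSpace
open scoped TensorProduct

noncomputable section

namespace Groth.L24.Fitt

variable {X U : Scheme.{u}}

/-- The Fitting ideal of the sections over an affine open, as a module over the base. -/
def fitIdeal (f : X ⟶ U) (W : U.Opens) (r : ℕ) : Ideal Γ(U, W) :=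
  letI : Algebra Γ(U, W) Γ(X, f ⁻¹ᵁ W) := (f.app W).hom.toAlgebra
  Fitt.ideal Γ(U, W) Γ(X, f ⁻¹ᵁ W) r

theorem finite_sections (f : X ⟶ U) [IsFinite f] {W : U.Opens} (hW : IsAffineOpen W) :
    letI : Algebra Γ(U, W) Γ(X, f ⁻¹ᵁ W) := (f.app W).hom.toAlgebra
    Module.Finite Γ(U, W) Γ(X, f ⁻¹ᵁ W) :=
  IsFinite.finite_app f W hW

/-- Fitting ideals of a finite morphism commute with base change. -/
theorem fitIdeal_baseChange {X' T : Scheme.{u}} {g' : X' ⟶ X} {f' : X' ⟶ T} {f : X ⟶ U} {g : T ⟶ U}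
    (h : IsPullback g' f' f g) [IsFinite f] {W : U.Opens} (hW : IsAffineOpen W) {W' : T.Opens}
    (hW' : IsAffineOpen W') (e : W' ≤ g ⁻¹ᵁ W) (r : ℕ) :
    fitIdeal f' W' r = (fitIdeal f W r).map (g.appLE W W' e).hom := by
  have hU : f' ⁻¹ᵁ W' = g' ⁻¹ᵁ (f ⁻¹ᵁ W) ⊓ f' ⁻¹ᵁ W' := by
    refine (inf_eq_right.2 ?_).symm
    rw [← Scheme.Hom.comp_preimage, h.w, Scheme.Hom.comp_preimage]
    exact f'.preimage_mono e
  have hpb := Scheme.Hom.isPullback_resLE h (US := W) (UT := W') e (UX := f ⁻¹ᵁ W) le_rfl hU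
  haveI : IsAffine W.toScheme := hW
  haveI : IsAffine W'.toScheme := hW'
  haveI : IsAffine (f ⁻¹ᵁ W).toScheme := hW.preimage f
  have eU : f' ⁻¹ᵁ W' ≤ g' ⁻¹ᵁ (f ⁻¹ᵁ W) := hU ▸ inf_le_left
  have hpo : IsPushout (f.appLE W (f ⁻¹ᵁ W) le_rfl) (g.appLE W W' e)
      (g'.appLE (f ⁻¹ᵁ W) (f' ⁻¹ᵁ W') eU) (f'.appLE W' (f' ⁻¹ᵁ W') le_rfl) := by
    refine (isPushout_appTop_of_isPullback hpb).of_iso W.topIso (f ⁻¹ᵁ W).topIso W'.topIso
      (f' ⁻¹ᵁ W').topIso ?_ ?_ ?_ ?_ <;>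
    simp only [Scheme.Hom.appTop, Scheme.Hom.resLE_app_top, Category.assoc, Iso.inv_hom_id, Category.comp_id]
  rw [← Scheme.Hom.app_eq_appLE, ← Scheme.Hom.app_eq_appLE] at hpo
  letI : Algebra Γ(U, W) Γ(X, f ⁻¹ᵁ W) := (f.app W).hom.toAlgebra
  letI : Algebra Γ(U, W) Γ(T, W') := (g.appLE W W' e).hom.toAlgebra
  letI : Algebra Γ(T, W') Γ(X', f' ⁻¹ᵁ W') := (f'.app W').hom.toAlgebra
  letI : Algebra Γ(X, f ⁻¹ᵁ W) Γ(X', f' ⁻¹ᵁ W') := (g'.appLE (f ⁻¹ᵁ W) (f' ⁻¹ᵁ W') eU).hom.toAlgebra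
  letI : Algebra Γ(U, W) Γ(X', f' ⁻¹ᵁ W') :=
    ((g'.appLE (f ⁻¹ᵁ W) (f' ⁻¹ᵁ W') eU).hom.comp (f.app W).hom).toAlgebra
  haveI : IsScalarTower Γ(U, W) Γ(X, f ⁻¹ᵁ W) Γ(X', f' ⁻¹ᵁ W') := IsScalarTower.of_algebraMap_eq fun _ => rfl
  haveI : IsScalarTower Γ(U, W) Γ(T, W') Γ(X', f' ⁻¹ᵁ W') :=
    IsScalarTower.of_algebraMap_eq' (congrArg CommRingCat.Hom.hom hpo.w)
  haveI : Algebra.IsPushout Γ(U, W) Γ(X, f ⁻¹ᵁ W) Γ(T, W') Γ(X', f' ⁻¹ᵁ W') :=
    CommRingCat.isPushout_iff_isPushout.mp hpo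
  haveI : Algebra.IsPushout Γ(U, W) Γ(T, W') Γ(X, f ⁻¹ᵁ W) Γ(X', f' ⁻¹ᵁ W') := Algebra.IsPushout.symm inferInstance
  haveI := finite_sections f hW
  let φ := (Algebra.IsPushout.equiv Γ(U, W) Γ(T, W') Γ(X, f ⁻¹ᵁ W) Γ(X', f' ⁻¹ᵁ W')).toLinearEquiv
  change Fitt.ideal Γ(T, W') Γ(X', f' ⁻¹ᵁ W') r =
    (Fitt.ideal Γ(U, W) Γ(X, f ⁻¹ᵁ W) r).map (algebraMap Γ(U, W) Γ(T, W'))
  rw [← Groth.L13.Fitting.ideal_congr φ r, Groth.L13.Fitting.ideal_baseChange]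

variable (f : X ⟶ U) [IsFinite f]

/-- The `r`-th Fitting ideal sheaf of a finite morphism. -/
def fitSheaf (r : ℕ) : U.IdealSheafData where
  ideal W := fitIdeal f W.1 r
  map_ideal_basicOpen W g := by
    refine ((fitIdeal_baseChange (f := f) (g := 𝟙 U) (g' := 𝟙 X) (f' := f)
      (IsPullback.of_horiz_isIso ⟨by simp⟩) W.2 (W.2.basicOpen g) (U.basicOpen_le g) r).trans ?_).symm
    rw [Scheme.Hom.appLE, Scheme.Hom.id_app]
    rfl

theorem fitSheaf_ideal (W : U.affineOpens) (r : ℕ) : (fitSheaf f r).ideal W = fitIdeal f W.1 r := rfl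

theorem comap_fitSheaf {X' T : Scheme.{u}} {g' : X' ⟶ X} {f' : X' ⟶ T} {g : T ⟶ U} [IsFinite f']
    (h : IsPullback g' f' f g) (r : ℕ) : (fitSheaf f r).comap g = fitSheaf f' r := by
  choose A V e hxV _ _ using fun x : T => Groth.L22.Ideals.exists_affine_pair g x
    (W := ⊤) (W' := ⊤) trivial trivial
  refine Scheme.IdealSheafData.ext_of_iSup_eq_top V
    (top_unique fun x _ => Opens.mem_iSup.2 ⟨x, hxV x⟩) fun x => ?_
  rw [Groth.L22.Ideals.comap_ideal g _ (A x) (V x) (e x), fitSheaf_ideal, fitSheaf_ideal,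
    fitIdeal_baseChange h (A x).2 (V x).2 (e x)]

theorem fitSheaf_mono : Monotone (fitSheaf f) := fun r k hrk W => by
  letI : Algebra Γ(U, W.1) Γ(X, f ⁻¹ᵁ W.1) := (f.app W.1).hom.toAlgebra
  haveI := finite_sections f W.2
  exact Groth.L13.Fitting.ideal_mono hrk

/-- A section forces the zeroth Fitting ideal to vanish. -/
theorem fitSheaf_zero_of_section (σ : U ⟶ X) (hσ : σ ≫ f = 𝟙 U) : fitSheaf f 0 = ⊥ := by
  refine Scheme.IdealSheafData.ext (funext fun W => ?_)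
  letI : Algebra Γ(U, W.1) Γ(X, f ⁻¹ᵁ W.1) := (f.app W.1).hom.toAlgebra
  haveI := finite_sections f W.2
  refine le_bot_iff.1 fun a ha => ?_
  have h1 := Module.mem_annihilator.1
    (Groth.L13.Fitting.ideal_zero_le_annihilator (R := Γ(U, W.1)) (M := Γ(X, f ⁻¹ᵁ W.1)) ha) 1
  rw [Algebra.smul_def, mul_one] at h1
  have h2 : (σ.app (f ⁻¹ᵁ W.1)) ((f.app W.1) a) = 0 := by
    rw [show (f.app W.1) a = 0 from h1, map_zero]
  have h3 : (σ ≫ f).app W.1 a = 0 := by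
    rw [Scheme.Hom.comp_app]; exact h2
  rw [Scheme.Hom.congr_app hσ W.1, Scheme.Hom.id_app, CategoryTheory.Category.id_comp] at h3
  refine (Ideal.mem_bot).2 ?_
  have : IsIso (U.presheaf.map (eqToHom (show ((Opens.map (σ ≫ f).base).obj W.1) =
      (Opens.map (𝟙 U : U ⟶ U).base).obj W.1 by rw [hσ])).op) := inferInstance
  exact (ConcreteCategory.bijective_of_isIso _).injective (h3.trans (map_zero _).symm)

theorem exists_notMem_support (u : U) : ∃ r, u ∉ (fitSheaf f r).support := by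
  obtain ⟨_, ⟨W, hW, rfl⟩, hxW, -⟩ :=
    U.isBasis_affineOpens.exists_subset_of_mem_open (Set.mem_univ u) isOpen_univ
  replace hW : IsAffineOpen W := hW
  letI : Algebra Γ(U, W) Γ(X, f ⁻¹ᵁ W) := (f.app W).hom.toAlgebra
  haveI := finite_sections f hW
  obtain ⟨n, g, hg⟩ := Groth.L13.Fitting.exists_gens (R := Γ(U, W)) (M := Γ(X, f ⁻¹ᵁ W))
  refine ⟨n, fun hu => ?_⟩
  rw [Scheme.IdealSheafData.mem_support_iff_of_mem (U := ⟨W, hW⟩) hxW] at hu
  rw [fitSheaf_ideal] at hu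
  have h1 : fitIdeal f W n = ⊤ := Groth.L13.Fitting.ideal_eq_top_of_gens g hg le_rfl
  rw [show (fitIdeal f (⟨W, hW⟩ : U.affineOpens).1 n) = ⊤ from h1] at hu
  have h2 : (1 : Γ(U, W)) ∈ ((⊤ : Ideal Γ(U, W)) : Set Γ(U, W)) := trivial
  exact ((U.mem_zeroLocus_iff _ _).1 hu 1 h2) (by rw [Scheme.basicOpen_of_isUnit _ isUnit_one]; exact hxW)

end Groth.L24.Fitt
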