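import Groth.Agent.L24.Fitt.Thickening
import Groth.Agent.L19.Approx.Closed
import Mathlib.RingTheory.Finiteness.ModuleFinitePresentation

/-!
Finitely presented case: the thickening is of finite presentation and contains the generic orbits.
-/

set_option autoImplicit false
set_option linter.style.haveILetI false
set_option backward.isDefEq.respectTransparency.types false
set_option backward.isDefEq.respectTransparency false

universe u

open CategoryTheory CategoryTheory.Limits AlgebraicGeometry TopologicalSpace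
open Groth.L19.Approx

noncomputable section

namespace Groth.L24.Fitt

theorem exists_kill {A : Type u} [CommRing A] (p : Ideal A) [p.IsPrime] (hmin : ∀ q : Ideal A, q.IsPrime → q ≤ p → q = p)
    {a : A} (ha : a ∈ p) : ∃ h ∉ p, ∀ q : Ideal A, q.IsPrime → h ∉ q → a ∈ q := by
  let M : Submonoid A := p.primeCompl ⊔ Submonoid.powers a
  by_cases h0 : (0 : A) ∈ M
  · obtain ⟨h, hh, b, hb, he⟩ := Submonoid.mem_sup.1 h0
    obtain ⟨n, rfl⟩ := hb
    exact ⟨h, hh, fun q hq hhq => hq.mem_of_pow_mem n ((hq.mem_or_mem (he ▸ q.zero_mem)).resolve_left hhq)⟩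
  · obtain ⟨q, hq, -, hd⟩ := Ideal.exists_le_prime_disjoint (⊥ : Ideal A) M
      (Set.disjoint_left.2 fun x hx hxM => h0 ((Submodule.mem_bot A).1 hx ▸ hxM))
    have hqp : q ≤ p := fun x hx => of_not_not fun hxp =>
      Set.disjoint_left.1 hd hx (Submonoid.mem_sup_left hxp)
    exact absurd ((hmin q hq hqp).symm ▸ ha) fun hm =>
      Set.disjoint_left.1 hd hm (Submonoid.mem_sup_right (Submonoid.mem_powers a))

/-- A generic point lying on a closed subscheme cut out by a finite type ideal is interior. -/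
theorem mem_interior_support {X : Scheme.{u}} (I : X.IdealSheafData) (hI : FGOn I ⊤) {x : X}
    (hx : x ∈ I.support) (hmax : ∀ y : X, y ⤳ x → y = x) : x ∈ interior (I.support : Set X) := by
  classical
  obtain ⟨_, ⟨V, hV, rfl⟩, hxV, -⟩ :=
    X.isBasis_affineOpens.exists_subset_of_mem_open (Set.mem_univ x) isOpen_univ
  replace hV : IsAffineOpen V := hV
  let P := hV.primeIdealOf ⟨x, hxV⟩
  have hPx : hV.fromSpec P = x := hV.fromSpec_primeIdealOf _
  have hmin : ∀ q : Ideal Γ(X, V), q.IsPrime → q ≤ P.asIdeal → q = P.asIdeal := by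
    intro q hq hle
    have h1 : hV.fromSpec ⟨q, hq⟩ ⤳ hV.fromSpec P :=
      ((PrimeSpectrum.le_iff_specializes ⟨q, hq⟩ P).1 hle).map hV.fromSpec.continuous
    rw [hPx] at h1
    exact congrArg PrimeSpectrum.asIdeal (hV.fromSpec.isOpenEmbedding.injective ((hmax _ h1).trans hPx.symm))
  have hmem : ∀ y : PrimeSpectrum Γ(X, V), hV.fromSpec y ∈ I.support ↔ I.ideal ⟨V, hV⟩ ≤ y.asIdeal := by
    intro y
    have hy : hV.fromSpec y ∈ V := hV.range_fromSpec.le ⟨y, rfl⟩
    rw [Scheme.IdealSheafData.mem_support_iff_of_mem (U := ⟨V, hV⟩) hy]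
    exact Set.ext_iff.1 (hV.fromSpec_preimage_zeroLocus _) y
  have hle : I.ideal ⟨V, hV⟩ ≤ P.asIdeal := (hmem P).1 (hPx.symm ▸ hx)
  obtain ⟨T, hT⟩ := hI ⟨V, hV⟩ le_top
  choose h hh hh' using fun a : T => exists_kill P.asIdeal hmin (hle (hT.le (Ideal.subset_span a.2)))
  let g := ∏ a : T, h a
  have hg : g ∉ P.asIdeal := fun hgm => by
    obtain ⟨a, -, ha⟩ := P.isPrime.prod_mem_iff.1 hgm
    exact hh a ha
  have hxg : x ∈ X.basicOpen g := by
    rw [← hPx]
    exact (SetLike.ext_iff.1 (hV.fromSpec_preimage_basicOpen g) P).2 hg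
  refine interior_maximal (fun y hy => ?_) (X.basicOpen g).isOpen hxg
  obtain ⟨q, rfl⟩ := hV.range_fromSpec.ge (X.basicOpen_le g hy)
  refine (hmem q).2 (hT ▸ Ideal.span_le.2 fun a ha => hh' ⟨a, ha⟩ q.asIdeal q.isPrime fun hq => ?_)
  exact (SetLike.ext_iff.1 (hV.fromSpec_preimage_basicOpen g) q).1 hy
    (q.isPrime.prod_mem_iff.2 ⟨⟨a, ha⟩, Finset.mem_univ _, hq⟩)

theorem fgOn_fitSheaf {X U : Scheme.{u}} (f : X ⟶ U) [IsFinite f] [LocallyOfFinitePresentation f] (r : ℕ) :
    FGOn (fitSheaf f r) ⊤ := by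
  intro V _
  letI : Algebra Γ(U, V.1) Γ(X, f ⁻¹ᵁ V.1) := (f.app V.1).hom.toAlgebra
  haveI := finite_sections f V.2
  haveI : Algebra.FinitePresentation Γ(U, V.1) Γ(X, f ⁻¹ᵁ V.1) := by
    have h := f.finitePresentation_appLE V.2 (V.2.preimage f) le_rfl
    rw [← Scheme.Hom.app_eq_appLE] at h
    exact h
  haveI : Module.FinitePresentation Γ(U, V.1) Γ(X, f ⁻¹ᵁ V.1) :=
    (Module.FinitePresentation.iff_finitePresentation_of_finite _ _).2 inferInstance
  exact Groth.L13.Fitting.ideal_fg_of_finitePresentation r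

theorem fgOn_comap' {Z Z' : Scheme.{u}} (w : Z' ⟶ Z) {K : Z.IdealSheafData} (hK : FGOn K ⊤) :
    FGOn (K.comap w) ⊤ := by
  refine fgOn_of_le_iSup _ ⊤
    (fun p : {p : Z.affineOpens × Z'.affineOpens // p.2.1 ≤ w ⁻¹ᵁ p.1.1} => p.1.2) ?_ fun p => ?_
  · intro z _
    obtain ⟨U, V, e, hz, -, -⟩ :=
      Groth.L22.Ideals.exists_affine_pair w z (W := ⊤) trivial (W' := ⊤) trivial
    exact Opens.mem_iSup.mpr ⟨⟨(U, V), e⟩, hz⟩
  · rw [Groth.L22.Ideals.comap_ideal w K p.1.1 p.1.2 p.2]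
    exact (hK _ le_top).map _

variable {S : Scheme.{u}} (G : Grpd.GroupoidScheme S) [IsFinite G.s] [IsFinite G.t]

theorem lfp_W' [LocallyOfFinitePresentation G.s] : LocallyOfFinitePresentation (W' G).subschemeι := by
  refine lfp_subschemeι (fgOn_of_le_iSup _ ⊤
    (fun p : {p : (W G).toScheme.affineOpens × ℕ // p.1.1 ≤ (part G).V p.2} => p.1.1) ?_ fun p => ?_)
  · intro x _
    obtain ⟨k, hk⟩ := (part G).cover x
    obtain ⟨_, ⟨V, hV, rfl⟩, hxV, hle⟩ :=
      (W G).toScheme.isBasis_affineOpens.exists_subset_of_mem_open hk ((part G).V k).isOpen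
    exact Opens.mem_iSup.mpr ⟨⟨(⟨V, hV⟩, k), hle⟩, hxV⟩
  · obtain ⟨⟨V, k⟩, hVk⟩ := p
    have h := congrArg (fun J : V.1.toScheme.IdealSheafData => J.ideal ⟨⊤, @isAffineOpen_top _ V.2⟩)
      ((part G).comap_glue_of_mem (fun k => (fitSheaf G.s k).comap (W G).ι) V.1.ι k fun y => hVk y.2)
    simp only [Groth.L22.Ideals.comap_ideal_ι] at h
    show ((W' G).ideal V).FG
    rw [show (W' G).ideal V = ((fitSheaf G.s k).comap (W G).ι).ideal V from
      Groth.L22.Ideals.map_hom_inj V.1.topIso.symm h]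
    exact fgOn_comap' _ (fgOn_fitSheaf G.s k) V le_top

theorem mem_W_of_generic [LocallyOfFinitePresentation G.s] {u : G.U}
    (h : ∀ r : G.R, G.s r = u → ∀ x : G.U, x ⤳ G.t r → x = G.t r) : u ∈ W G := by
  classical
  have hex : ∃ k, u ∉ (fitSheaf G.s (k + 1)).support := by
    obtain ⟨k, hk⟩ := exists_notMem_support G.s u
    exact ⟨k, fun h => hk (Scheme.IdealSheafData.support_antitone (fitSheaf_mono G.s k.le_succ) h)⟩
  let k := Nat.find hex
  have hsucc : u ∉ (fitSheaf G.s (k + 1)).support := Nat.find_spec hex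
  have hk : u ∈ (fitSheaf G.s k).support := by
    rcases Nat.eq_zero_or_pos k with hk | hk
    · rw [hk, fitSheaf_zero G, Scheme.IdealSheafData.support_bot]; trivial
    · have := Nat.find_min hex (show k - 1 < k by omega)
      rwa [not_not, show k - 1 + 1 = k by omega] at this
  refine (mem_W G).2 ⟨k, (mem_core G).2 fun r hr => ?_⟩
  have hmax : ∀ x : G.U, x ⤳ G.s r → x = G.s r := by
    have h1 := h (G.i r) (by rw [← Scheme.Hom.comp_apply, G.i_s, hr])
    rw [← Scheme.Hom.comp_apply, G.i_t] at h1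
    exact h1
  exact ⟨mem_interior_support _ (fgOn_fitSheaf G.s k) ((support_invariant G k r).2 (hr ▸ hk)) hmax,
    fun hs => hsucc (hr ▸ (support_invariant G (k + 1) r).1 hs)⟩

end Groth.L24.Fitt
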