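import Groth.Agent.L22.Ideal
import Mathlib.AlgebraicGeometry.IdealSheaf.Functorial

/-!
Ideal sheaves glued along a partition into open sets; invariance on an invariant open.
-/

set_option autoImplicit false
set_option linter.style.haveILetI false
set_option backward.isDefEq.respectTransparency.types false
set_option backward.isDefEq.respectTransparency false

universe u v

open CategoryTheory CategoryTheory.Limits AlgebraicGeometry TopologicalSpace

noncomputable section

namespace Groth.L24.Fitt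

variable {X Y : Scheme.{u}}

theorem comap_iSup {κ : Sort v} (f : Y ⟶ X) (I : κ → X.IdealSheafData) :
    (⨆ i, I i).comap f = ⨆ i, (I i).comap f :=
  (Scheme.IdealSheafData.map_gc f).l_iSup

theorem isClosedImmersion_clopen {C : X.Opens} (hC : IsClosed (C : Set X)) : IsClosedImmersion C.ι :=
  IsClosedImmersion.of_isPreimmersion C.ι (by rw [Scheme.Opens.range_ι]; exact hC)

theorem comap_ker_clopen {C : X.Opens} (hC : IsClosed (C : Set X)) (f : Y ⟶ X) :
    C.ι.ker.comap f = (f ⁻¹ᵁ C).ι.ker := by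
  haveI := isClosedImmersion_clopen hC
  rw [← Scheme.IdealSheafData.ker_fst_of_isClosedImmersion, ← (isPullback_morphismRestrict f C).flip.isoPullback_hom_fst,
    Scheme.Hom.ker_comp_of_isIso]

theorem ker_clopen_of_eq_top {C : X.Opens} (h : C = ⊤) : C.ι.ker = ⊥ := by
  subst h
  rw [show (⊤ : X.Opens).ι = X.topIso.hom from rfl, ← Category.comp_id X.topIso.hom,
    Scheme.Hom.ker_comp_of_isIso]
  exact (Scheme.IdealSheafData.map_bot (𝟙 X)).symm.trans (by simp [Scheme.IdealSheafData.map])

theorem ker_clopen_of_eq_bot {C : X.Opens} (h : C = ⊥) : C.ι.ker = ⊤ := by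
  subst h
  haveI := isClosedImmersion_clopen (C := (⊥ : X.Opens)) isClosed_empty
  refine (Scheme.IdealSheafData.support_eq_bot_iff _).1 (Closeds.ext ?_)
  rw [Scheme.Hom.support_ker, Scheme.Opens.range_ι]
  exact closure_empty

/-- A partition of a scheme into opens. -/
structure OpenPartition (X : Scheme.{u}) (ι : Type v) where
  /-- the pieces -/
  V : ι → X.Opens
  disjoint : ∀ i j, i ≠ j → ∀ x, x ∈ V i → x ∉ V j
  cover : ∀ x : X, ∃ i, x ∈ V i

namespace OpenPartition

variable {ι : Type v} (P : OpenPartition X ι)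

/-- The union of the other pieces. -/
def others (i : ι) : X.Opens := ⨆ (j : ι) (_ : j ≠ i), P.V j

theorem mem_others {i : ι} {x : X} : x ∈ P.others i ↔ x ∉ P.V i := by
  simp only [others, Opens.mem_iSup]
  refine ⟨fun ⟨j, hj, hx⟩ => P.disjoint j i hj x hx, fun hx => ?_⟩
  obtain ⟨j, hj⟩ := P.cover x
  exact ⟨j, fun e => hx (e ▸ hj), hj⟩

theorem isClosed_others (i : ι) : IsClosed (P.others i : Set X) := by
  have : (P.others i : Set X) = (P.V i : Set X)ᶜ := Set.ext fun x => P.mem_others
  rw [this]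
  exact (P.V i).isOpen.isClosed_compl

/-- The ideal sheaf equal to `I i` on the piece `V i`. -/
def glue (I : ι → X.IdealSheafData) : X.IdealSheafData := ⨆ i, (P.others i).ι.ker * I i

theorem comap_glue (I : ι → X.IdealSheafData) (f : Y ⟶ X) :
    (P.glue I).comap f = ⨆ i, (f ⁻¹ᵁ P.others i).ι.ker * (I i).comap f := by
  rw [glue, comap_iSup]
  simp only [Groth.L22.Ideals.comap_mul, comap_ker_clopen (P.isClosed_others _) f]

theorem comap_glue_of_mem (I : ι → X.IdealSheafData) (f : Y ⟶ X) (i : ι) (hf : ∀ y, f y ∈ P.V i) :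
    (P.glue I).comap f = (I i).comap f := by
  have h1 : f ⁻¹ᵁ P.others i = ⊥ := Opens.ext (Set.eq_empty_iff_forall_notMem.2 fun y hy => P.mem_others.1 hy (hf y))
  have h2 : ∀ j, j ≠ i → f ⁻¹ᵁ P.others j = ⊤ := fun j hj =>
    top_unique fun y _ => P.mem_others.2 (P.disjoint i j (Ne.symm hj) _ (hf y))
  have key : ∀ j, (f ⁻¹ᵁ P.others j).ι.ker * (I j).comap f ≤ (I i).comap f := by
    intro j V
    rw [Scheme.IdealSheafData.ideal_mul, Pi.mul_apply]
    by_cases hj : j = i
    · subst hj; exact Ideal.mul_le_right (I := ((f ⁻¹ᵁ P.others j).ι.ker).ideal V) (J := ((I j).comap f).ideal V)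
    · rw [ker_clopen_of_eq_top (h2 j hj), Scheme.IdealSheafData.ideal_bot, Pi.bot_apply, Ideal.bot_mul]
      exact bot_le
  refine le_antisymm ((P.comap_glue I f).le.trans (iSup_le key)) ?_
  rw [P.comap_glue I f]
  refine le_iSup_of_le i fun V => ?_
  rw [Scheme.IdealSheafData.ideal_mul, Pi.mul_apply, ker_clopen_of_eq_bot h1, Scheme.IdealSheafData.ideal_top,
    Pi.top_apply, Ideal.top_mul]

theorem comap_glue_congr (I : ι → X.IdealSheafData) (f g : Y ⟶ X) (hV : ∀ i, f ⁻¹ᵁ P.V i = g ⁻¹ᵁ P.V i)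
    (hI : ∀ i, (I i).comap f = (I i).comap g) : (P.glue I).comap f = (P.glue I).comap g := by
  have : ∀ i, f ⁻¹ᵁ P.others i = g ⁻¹ᵁ P.others i := fun i => by
    ext y
    exact P.mem_others.trans ((not_congr (SetLike.ext_iff.1 (hV i) y)).trans P.mem_others.symm)
  simp only [P.comap_glue, hI]
  refine iSup_congr fun i => ?_
  generalize hA : f ⁻¹ᵁ P.others i = A
  generalize hB : g ⁻¹ᵁ P.others i = B
  obtain rfl : A = B := hA.symm.trans ((this i).trans hB)
  rfl

theorem support_glue_eq_top (I : ι → X.IdealSheafData) (h : ∀ i, ∀ x ∈ P.V i, x ∈ (I i).support) :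
    (P.glue I).support = ⊤ := by
  refine Closeds.ext (Set.eq_univ_of_forall fun x => ?_)
  obtain ⟨i, hi⟩ := P.cover x
  have hx : (⟨x, hi⟩ : P.V i) ∈ ((P.glue I).comap (P.V i).ι).support := by
    rw [P.comap_glue_of_mem I (P.V i).ι i fun (y : P.V i) => y.2, Scheme.IdealSheafData.support_comap]
    exact h i x hi
  rw [Scheme.IdealSheafData.support_comap] at hx
  exact hx

end OpenPartition

theorem isPullback_resLE_ι (g : X ⟶ Y) (W : Y.Opens) (Q : X.Opens) (hQ : Q = g ⁻¹ᵁ W) :
    IsPullback Q.ι (g.resLE W Q hQ.le) g W.ι := by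
  subst hQ
  rw [Scheme.Hom.resLE_eq_morphismRestrict]
  exact (isPullback_morphismRestrict g W).flip

end Groth.L24.Fitt
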