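import Groth.Agent.L24.Fitt.FinLocFree
import Groth.Agent.L02.Grpd.Algebra

/-!
The Fitting stratification of a groupoid scheme with finite source and target.
-/

set_option autoImplicit false
set_option linter.style.haveILetI false
set_option backward.isDefEq.respectTransparency.types false
set_option backward.isDefEq.respectTransparency false

universe u

open CategoryTheory CategoryTheory.Limits AlgebraicGeometry TopologicalSpace

noncomputable section

namespace Groth.L24.Fitt

/-- Equal inverse image ideals give isomorphic pullbacks over the common source. -/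
theorem exists_pullback_iso {X Y : Scheme.{u}} (p q : X ⟶ Y) (I : Y.IdealSheafData) (h : I.comap p = I.comap q) :
    ∃ φ : pullback p I.subschemeι ≅ pullback q I.subschemeι,
      φ.hom ≫ pullback.fst q I.subschemeι = pullback.fst p I.subschemeι := by
  haveI : IsClosedImmersion (pullback.fst p I.subschemeι) := MorphismProperty.pullback_fst _ _ inferInstance
  haveI : IsClosedImmersion (pullback.fst q I.subschemeι) := MorphismProperty.pullback_fst _ _ inferInstance
  have hk : (pullback.fst q I.subschemeι).ker = (pullback.fst p I.subschemeι).ker := h.symm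
  let a := IsClosedImmersion.lift (pullback.fst q I.subschemeι) (pullback.fst p I.subschemeι) hk.le
  have ha : a ≫ pullback.fst q I.subschemeι = pullback.fst p I.subschemeι := IsClosedImmersion.lift_fac _ _ _
  haveI : IsIso a := IsClosedImmersion.isIso_lift _ _ hk
  exact ⟨asIso a, ha⟩

variable {S : Scheme.{u}} (G : Grpd.GroupoidScheme S) [IsFinite G.s]

theorem comap_s_eq_comap_t (r : ℕ) : (fitSheaf G.s r).comap G.s = (fitSheaf G.s r).comap G.t := by
  haveI : IsFinite (pullback.snd G.s G.t) := MorphismProperty.pullback_snd _ _ inferInstance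
  rw [comap_fitSheaf G.s (L02.Grpd.isPullback_c_snd G) r,
    comap_fitSheaf G.s (IsPullback.of_hasPullback G.s G.t) r]

theorem fitSheaf_zero : fitSheaf G.s 0 = ⊥ := fitSheaf_zero_of_section G.s G.e G.e_s

theorem iInter_support : (⋂ r, ((fitSheaf G.s r).support : Set G.U)) = ∅ := by
  refine Set.eq_empty_iff_forall_notMem.2 fun u hu => ?_
  obtain ⟨r, hr⟩ := exists_notMem_support G.s u
  exact hr (Set.mem_iInter.1 hu r)

/-- Over anything mapping into `Z r` off `Z (r+1)` the source map is finite locally free of rank `r + 1`. -/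
theorem stratum_finLocFree (r : ℕ) {T : Scheme.{u}} (j : T ⟶ G.U)
    (hbot : (fitSheaf G.s r).comap j = ⊥) (htop : ∀ x, j x ∉ (fitSheaf G.s (r + 1)).support) :
    Mor2.IsFinLocFreeOfDeg (r + 1) (pullback.snd G.s j) := by
  haveI : IsFinite (pullback.snd G.s j) := MorphismProperty.pullback_snd _ _ inferInstance
  refine Jump.isFinLocFreeOfDeg ⟨fun k hk => ?_, ?_⟩
  · rw [← comap_fitSheaf G.s (IsPullback.of_hasPullback G.s j), eq_bot_iff, ← hbot]
    exact Scheme.IdealSheafData.comap_mono _ (fitSheaf_mono G.s (Nat.lt_succ_iff.1 hk))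
  · rw [← comap_fitSheaf G.s (IsPullback.of_hasPullback G.s j), ← Scheme.IdealSheafData.support_eq_bot_iff,
      Scheme.IdealSheafData.support_comap]
    exact Closeds.ext (Set.eq_empty_iff_forall_notMem.2 htop)

omit [IsFinite G.s] in
theorem comap_eq_bot_of_factor {T : Scheme.{u}} (I : G.U.IdealSheafData) (h : T ⟶ I.subscheme) :
    I.comap (h ≫ I.subschemeι) = ⊥ := by
  rw [Scheme.IdealSheafData.comap_comp,
    show I.comap I.subschemeι = ⊥ from le_bot_iff.1 (Scheme.IdealSheafData.le_map_iff_comap_le.1
      (by rw [Scheme.IdealSheafData.map_bot, Scheme.IdealSheafData.ker_subschemeι])),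
    Scheme.IdealSheafData.comap_bot]

end Groth.L24.Fitt
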