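import Groth.Agent.L24.Fitt.Strata
import Groth.Agent.L24.Fitt.Glue
import Groth.Agent.L24.Orbit.QcOpens
import Mathlib.AlgebraicGeometry.Morphisms.UniversallyClosed

/-!
An invariant open with a thickening structure over which source and target are finite locally free.
-/

set_option autoImplicit false
set_option linter.style.haveILetI false
set_option backward.isDefEq.respectTransparency.types false
set_option backward.isDefEq.respectTransparency false

universe u

open CategoryTheory CategoryTheory.Limits AlgebraicGeometry TopologicalSpace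
open Groth.L24.Orbit

noncomputable section

namespace Groth.L24.Fitt

/-- Equal inverse images on an open with equal preimages give isomorphic pullbacks. -/
theorem exists_pullback_iso_of_open {X Y : Scheme.{u}} (p q : X ⟶ Y) (V : Y.Opens) (Q : X.Opens)
    (hp : Q = p ⁻¹ᵁ V) (hq : Q = q ⁻¹ᵁ V) (I : V.toScheme.IdealSheafData)
    (h : I.comap (p.resLE V Q hp.le) = I.comap (q.resLE V Q hq.le)) :
    ∃ φ : pullback p (I.subschemeι ≫ V.ι) ≅ pullback q (I.subschemeι ≫ V.ι),
      φ.hom ≫ pullback.fst q (I.subschemeι ≫ V.ι) = pullback.fst p (I.subschemeι ≫ V.ι) := by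
  obtain ⟨φ, hφ⟩ := exists_pullback_iso _ _ I h
  have hs := (IsPullback.of_hasPullback (p.resLE V Q hp.le) I.subschemeι).paste_horiz
    (isPullback_resLE_ι p V Q hp)
  have ht := (IsPullback.of_hasPullback (q.resLE V Q hq.le) I.subschemeι).paste_horiz
    (isPullback_resLE_ι q V Q hq)
  refine ⟨hs.isoPullback.symm ≪≫ φ ≪≫ ht.isoPullback, ?_⟩
  simp only [Iso.trans_hom, Iso.symm_hom, Category.assoc, IsPullback.isoPullback_hom_fst]
  rw [← Category.assoc φ.hom, hφ, hs.isoPullback_inv_fst]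

variable {S : Scheme.{u}} (G : Grpd.GroupoidScheme S) [IsFinite G.s] [IsFinite G.t]

/-- The largest invariant open inside an open. -/
def core (O : G.U.Opens) : G.U.Opens :=
  ⟨(sat G (O : Set G.U)ᶜ)ᶜ,
    (G.t.isClosedMap _ (O.isOpen.isClosed_compl.preimage G.s.continuous)).isOpen_compl⟩

omit [IsFinite G.s] in
theorem mem_core {O : G.U.Opens} {x : G.U} : x ∈ core G O ↔ ∀ r : G.R, G.t r = x → G.s r ∈ O :=
  ⟨fun h r hr => of_not_not fun hn => h ⟨r, hn, hr⟩, fun h ⟨r, hn, hr⟩ => hn (h r hr)⟩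

omit [IsFinite G.s] in
theorem core_le (O : G.U.Opens) : core G O ≤ O := fun _ hx =>
  of_not_not fun hn => hx (subset_sat G _ hn)

omit [IsFinite G.s] in
theorem core_invariant (O : G.U.Opens) : G.s ⁻¹ᵁ core G O = G.t ⁻¹ᵁ core G O :=
  Opens.ext (Set.ext fun r => not_congr (sat_invariant G _ r))

omit [IsFinite G.t] in
theorem support_invariant (k : ℕ) (r : G.R) :
    G.s r ∈ (fitSheaf G.s k).support ↔ G.t r ∈ (fitSheaf G.s k).support := by
  have h := congrArg (fun I : G.R.IdealSheafData => r ∈ I.support) (comap_s_eq_comap_t G k)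
  simp only [Scheme.IdealSheafData.support_comap] at h
  exact h ▸ Iff.rfl

/-- The stratum open. -/
def piece (k : ℕ) : G.U.Opens :=
  core G ⟨interior ((fitSheaf G.s k).support : Set G.U) \ (fitSheaf G.s (k + 1)).support,
    isOpen_interior.sdiff (fitSheaf G.s (k + 1)).support.isClosed⟩

theorem piece_subset (k : ℕ) {x : G.U} (hx : x ∈ piece G k) :
    x ∈ (fitSheaf G.s k).support ∧ x ∉ (fitSheaf G.s (k + 1)).support :=
  have h := core_le G _ hx
  ⟨interior_subset h.1, h.2⟩

theorem piece_disjoint (i j : ℕ) (hij : i ≠ j) (x : G.U) (hi : x ∈ piece G i) : x ∉ piece G j := by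
  intro hj
  rcases lt_or_gt_of_ne hij with h | h
  · exact (piece_subset G i hi).2 (Scheme.IdealSheafData.support_antitone (fitSheaf_mono G.s h) (piece_subset G j hj).1)
  · exact (piece_subset G j hj).2 (Scheme.IdealSheafData.support_antitone (fitSheaf_mono G.s h) (piece_subset G i hi).1)

/-- The invariant open. -/
def W : G.U.Opens := ⨆ k, piece G k

theorem mem_W {x : G.U} : x ∈ W G ↔ ∃ k, x ∈ piece G k := Opens.mem_iSup

theorem W_invariant : G.s ⁻¹ᵁ W G = G.t ⁻¹ᵁ W G := by
  simp only [W, Scheme.Hom.preimage_iSup, core_invariant, piece]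

theorem W_saturates (u : G.U) : ∃ r : G.R, G.t r = u ∧ G.s r ∈ closure (W G : Set G.U) := by
  classical
  by_contra hu
  push Not at hu
  let V : G.U.Opens := core G ⟨(closure (W G : Set G.U))ᶜ, isClosed_closure.isOpen_compl⟩
  have hV : u ∈ V := (mem_core G).2 fun r hr => hu r hr
  have hex : ∃ k, ∃ x ∈ V, x ∉ (fitSheaf G.s (k + 1)).support := by
    obtain ⟨k, hk⟩ := exists_notMem_support G.s u
    exact ⟨k, u, hV, fun h => hk (Scheme.IdealSheafData.support_antitone (fitSheaf_mono G.s k.le_succ) h)⟩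
  let k := Nat.find hex
  obtain ⟨x, hxV, hxk⟩ := Nat.find_spec hex
  have hsub : (V : Set G.U) ⊆ (fitSheaf G.s k).support := by
    intro y hy
    rcases Nat.eq_zero_or_pos k with hk | hk
    · rw [hk, fitSheaf_zero G, Scheme.IdealSheafData.support_bot]; trivial
    · by_contra hn
      exact Nat.find_min hex (show k - 1 < k by omega) ⟨y, hy, by rwa [show k - 1 + 1 = k by omega]⟩
  let O : G.U.Opens := ⟨(V : Set G.U) \ (fitSheaf G.s (k + 1)).support,
    V.isOpen.sdiff (fitSheaf G.s (k + 1)).support.isClosed⟩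
  have hxp : x ∈ piece G k := by
    refine (mem_core G).2 fun r hr => ?_
    have hrV : G.s r ∈ V := (SetLike.ext_iff.1 (core_invariant G _) r).2 (show G.t r ∈ V from hr ▸ hxV)
    have hrk : G.s r ∉ (fitSheaf G.s (k + 1)).support := fun h => hxk (hr ▸ (support_invariant G _ r).1 h)
    exact ⟨interior_maximal (show (O : Set G.U) ⊆ _ from fun y hy => hsub hy.1) O.isOpen ⟨hrV, hrk⟩, hrk⟩
  exact core_le G _ hxV (subset_closure ((mem_W G).2 ⟨k, hxp⟩))

/-- The partition of `W` into the strata. -/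
def part : OpenPartition (W G).toScheme ℕ where
  V k := (W G).ι ⁻¹ᵁ piece G k
  disjoint i j hij _ hi := piece_disjoint G i j hij _ hi
  cover x := (mem_W G).1 x.2

/-- The thickened structure on `W`. -/
def W' : (W G).toScheme.IdealSheafData := (part G).glue fun k => (fitSheaf G.s k).comap (W G).ι

theorem W'_support : (W' G).support = ⊤ :=
  (part G).support_glue_eq_top _ fun k x hx => by
    rw [Scheme.IdealSheafData.support_comap]
    exact (piece_subset G k hx).1

theorem W'_comap_eq :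
    (W' G).comap (G.s.resLE (W G) (G.s ⁻¹ᵁ W G) le_rfl) =
      (W' G).comap (G.t.resLE (W G) (G.s ⁻¹ᵁ W G) (W_invariant G).le) := by
  let Q := G.s ⁻¹ᵁ W G
  let a : Q.toScheme ⟶ (W G).toScheme := G.s.resLE (W G) Q le_rfl
  let b : Q.toScheme ⟶ (W G).toScheme := G.t.resLE (W G) Q (W_invariant G).le
  have ha : a ≫ (W G).ι = Q.ι ≫ G.s := Scheme.Hom.resLE_comp_ι _ _
  have hb : b ≫ (W G).ι = Q.ι ≫ G.t := Scheme.Hom.resLE_comp_ι _ _
  show (W' G).comap a = (W' G).comap b
  refine (part G).comap_glue_congr _ a b (fun k => ?_) fun k => ?_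
  · show a ⁻¹ᵁ ((W G).ι ⁻¹ᵁ piece G k) = b ⁻¹ᵁ ((W G).ι ⁻¹ᵁ piece G k)
    rw [← Scheme.Hom.comp_preimage, ← Scheme.Hom.comp_preimage, ha, hb, Scheme.Hom.comp_preimage,
      Scheme.Hom.comp_preimage, piece, core_invariant]
  · rw [← Scheme.IdealSheafData.comap_comp, ← Scheme.IdealSheafData.comap_comp, ha, hb,
      Scheme.IdealSheafData.comap_comp, Scheme.IdealSheafData.comap_comp, comap_s_eq_comap_t]

theorem exists_W'_iso : ∃ φ : pullback G.s ((W' G).subschemeι ≫ (W G).ι) ≅ pullback G.t ((W' G).subschemeι ≫ (W G).ι),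
    φ.hom ≫ pullback.fst G.t ((W' G).subschemeι ≫ (W G).ι) = pullback.fst G.s ((W' G).subschemeι ≫ (W G).ι) :=
  exists_pullback_iso_of_open G.s G.t (W G) _ rfl (W_invariant G) (W' G) (W'_comap_eq G)

theorem finLocFree_s : Mor2.IsFinLocFree (pullback.snd G.s ((W' G).subschemeι ≫ (W G).ι)) := by
  have hfin : IsFinite (pullback.snd G.s ((W' G).subschemeι ≫ (W G).ι)) :=
    MorphismProperty.pullback_snd _ _ inferInstance
  let T : ℕ → (W' G).subscheme.Opens := fun k => (W' G).subschemeι ⁻¹ᵁ (part G).V k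
  have hT : IsOpenCover T :=
    top_unique fun y _ => Opens.mem_iSup.2 ((part G).cover ((W' G).subschemeι y))
  let 𝒰 := (W' G).subscheme.openCoverOfIsOpenCover T hT
  have key : ∀ k, Flat (pullback.snd G.s ((T k).ι ≫ (W' G).subschemeι ≫ (W G).ι)) ∧
      LocallyOfFinitePresentation (pullback.snd G.s ((T k).ι ≫ (W' G).subschemeι ≫ (W G).ι)) := by
    intro k
    have h := stratum_finLocFree G k ((T k).ι ≫ (W' G).subschemeι ≫ (W G).ι) ?_
      fun x => (piece_subset G k (show ((W G).ι ((W' G).subschemeι ((T k).ι x))) ∈ piece G k from x.2)).2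
    · exact h.1.2
    rw [← Category.assoc, Scheme.IdealSheafData.comap_comp, Scheme.IdealSheafData.comap_comp]
    have h1 := (part G).comap_glue_of_mem (fun k => (fitSheaf G.s k).comap (W G).ι)
      ((T k).ι ≫ (W' G).subschemeι) k fun x => x.2
    rw [← Scheme.IdealSheafData.comap_comp, ← h1, Scheme.IdealSheafData.comap_comp,
      show ((part G).glue fun k => (fitSheaf G.s k).comap (W G).ι).comap (W' G).subschemeι = ⊥ from
        le_bot_iff.1 (Scheme.IdealSheafData.le_map_iff_comap_le.1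
          (by rw [Scheme.IdealSheafData.map_bot, Scheme.IdealSheafData.ker_subschemeι]; rfl)),
      Scheme.IdealSheafData.comap_bot]
  refine ⟨hfin, ?_, ?_⟩
  · refine (IsZariskiLocalAtTarget.iff_of_openCover (P := @Flat) 𝒰).2 fun k => ?_
    have h := (key k).1
    show Flat (pullback.snd (pullback.snd G.s ((W' G).subschemeι ≫ (W G).ι)) (T k).ι)
    rw [← pullbackLeftPullbackSndIso_hom_snd G.s ((W' G).subschemeι ≫ (W G).ι) (T k).ι,
      MorphismProperty.cancel_left_of_respectsIso @Flat]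
    exact h
  · refine (IsZariskiLocalAtTarget.iff_of_openCover (P := @LocallyOfFinitePresentation) 𝒰).2 fun k => ?_
    have h := (key k).2
    show LocallyOfFinitePresentation (pullback.snd (pullback.snd G.s ((W' G).subschemeι ≫ (W G).ι)) (T k).ι)
    rw [← pullbackLeftPullbackSndIso_hom_snd G.s ((W' G).subschemeι ≫ (W G).ι) (T k).ι,
      MorphismProperty.cancel_left_of_respectsIso @LocallyOfFinitePresentation]
    exact h

omit [IsFinite G.s] [IsFinite G.t] in
theorem i_i : G.i ≫ G.i = 𝟙 G.R := by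
  have h := L02.Grpd.cancel_left G (𝟙 G.R ≫ G.i) (𝟙 G.R) (by simp [G.i_s])
  refine Eq.trans ?_ h
  have h2 : L02.Grpd.mul G (𝟙 G.R ≫ G.i) (𝟙 G.R) (by simp [G.i_s]) = 𝟙 G.R ≫ G.s ≫ G.e := G.i_comp (𝟙 G.R)
  refine ((L02.Grpd.mul_congr G rfl h2 (by simp [G.i_s]) (by simp [G.e_t, G.i_s, G.i_t])).trans ?_).symm
  have h3 := G.comp_e (𝟙 G.R ≫ G.i ≫ G.i)
  refine (L02.Grpd.mul_congr G (by simp) ?_ _ (by simp [G.e_t])).trans (h3.trans (Category.id_comp _))
  simp only [Category.id_comp]
  rw [Category.assoc, ← Category.assoc G.i G.s, G.i_s, ← Category.assoc G.i, G.i_t]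

omit [IsFinite G.s] [IsFinite G.t] in
theorem finLocFree_t_of_s {T : Scheme.{u}} (j : T ⟶ G.U) (h : Mor2.IsFinLocFree (pullback.snd G.s j)) :
    Mor2.IsFinLocFree (pullback.snd G.t j) := by
  haveI : IsIso G.i := ⟨G.i, i_i G, i_i G⟩
  have hp : IsPullback (pullback.fst G.t j ≫ G.i) (pullback.snd G.t j) G.s j :=
    (IsPullback.of_hasPullback G.t j).paste_horiz
      ((IsPullback.of_horiz_isIso ⟨by rw [Category.comp_id, G.i_s]⟩ : IsPullback G.i G.t G.s (𝟙 G.U))) |>
      fun h => by simpa using h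
  rw [← hp.isoPullback_hom_snd]
  exact ⟨(MorphismProperty.cancel_left_of_respectsIso @IsFinite _ _).2 h.1,
    (MorphismProperty.cancel_left_of_respectsIso @Flat _ _).2 h.2.1,
    (MorphismProperty.cancel_left_of_respectsIso @LocallyOfFinitePresentation _ _).2 h.2.2⟩

end Groth.L24.Fitt
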